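import Cfsg.Agent.H614.Nakayama
import Cfsg.Agent.H614.Height
import Cfsg.Agent.H615.AltConj
import Cfsg.Agent.H769.OZ.Levi
import Cfsg.Agent.Nodes.WittInst
import Cfsg.Agent.FastGrp
import Cfsg.Agent.Prune
set_option linter.all false

section
prune_inst 0x7ffffffffffcfddfffff7ffff7ffcffdf9fbbfffe6fffdfbffecffffbf7ff78aafe7fbbfedf8d2fe3fd7e33c58387853fbffeeffe26bdc7ffffd5ff41fffee5ff5f7b50971fd9cbe1fbe2fff83f0ffce7f3fffffffffffffffffffffffffffbeffbfffffffff

-- part: H963/XZ/Bt
section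
set_option linter.all false
open scoped Cfsg.Agent.FastGrp

/-!
# S4791 + S4927: beta-numbers with one long hook added to the core of a row (helper963)

`kp n s` : the beta-numbers (`n` of them) of the partition `(s)`; `bt n s N k` : the `k`-th largest of them raised by `N`.
* `FM_bt` : `FM (p^m + t) (bt n s (m p) k) = FM t (kp n s)` if `s + k ≠ p`, `k < p`;
* `FM_kp` : the value `1`;
* `range_bt_ne`, `range_bt_ne_refl` : the ranges differ, also up to reflection.
-/

set_option autoImplicit false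

namespace Cfsg.Agent.H963.XZ

open Finset Cfsg Cfsg.Agent.H614 Cfsg.Agent.H615.AltRefl Cfsg.Agent.H615.AltConj

/-- the beta-numbers of a row of length `s` -/
def kp (n s : ℕ) : Fin n → ℕ := fun i => if (i : ℕ) + 1 = n then s + i else i

theorem kp_last {n s : ℕ} (i : Fin n) (h : (i : ℕ) + 1 = n) : kp n s i = s + i := if_pos h

theorem kp_lt {n s : ℕ} (i : Fin n) (h : (i : ℕ) + 1 ≠ n) : kp n s i = i := if_neg h

theorem kp_injective (n s : ℕ) : Function.Injective (kp n s) := by
  intro a b hab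
  have ha := a.2
  have hb := b.2
  unfold kp at hab
  apply Fin.ext
  split_ifs at hab <;> omega

theorem sum_kp {n : ℕ} (hn : 0 < n) (s : ℕ) : ∑ i, kp n s i = s + ∑ i : Fin n, (i : ℕ) := by
  have h : ∀ i : Fin n, kp n s i = (i : ℕ) + if i = ⟨n - 1, by omega⟩ then s else 0 := by
    intro i
    unfold kp
    have hi : i = ⟨n - 1, by omega⟩ ↔ (i : ℕ) + 1 = n := by
      rw [Fin.ext_iff]
      have := i.2
      change (i : ℕ) = n - 1 ↔ _
      omega
    by_cases h1 : (i : ℕ) + 1 = n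
    · rw [if_pos h1, if_pos (hi.2 h1)]
      omega
    · rw [if_neg h1, if_neg (fun h => h1 (hi.1 h))]
      rfl
  rw [Finset.sum_congr rfl fun i _ => h i, Finset.sum_add_distrib, Finset.sum_ite_eq' univ, if_pos (mem_univ _)]
  omega

/-- the row: the trivial character -/
theorem FM_kp {n : ℕ} (hn : 0 < n) (t : Multiset ℕ) (ht : ∀ r ∈ t, 0 < r) : FM t (kp n t.sum) = 1 := by
  induction t using Multiset.induction_on with
  | empty =>
    have h : kp n (0 : Multiset ℕ).sum = fun i : Fin n => (i : ℕ) := by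
      funext i
      rw [Multiset.sum_zero]
      unfold kp
      split_ifs <;> omega
    rw [h, FM_zero, vac_eq_pair, pair_self_of_strictMono (fun i j h => h)]
  | cons r t ih =>
    have hr : 0 < r := ht r (Multiset.mem_cons_self r t)
    rw [Multiset.sum_cons, FM_cons, Finset.sum_eq_single (⟨n - 1, by omega⟩ : Fin n)]
    · have h1 : kp n (r + t.sum) ⟨n - 1, by omega⟩ = (r + t.sum) + (n - 1) := kp_last _ (by change n - 1 + 1 = n; omega)
      rw [if_pos (by rw [h1]; omega)]
      have h2 : dn (kp n (r + t.sum)) ⟨n - 1, by omega⟩ r = kp n t.sum := by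
        funext i
        by_cases hi : i = ⟨n - 1, by omega⟩
        · subst hi
          rw [dn_self, h1, kp_last _ (by change n - 1 + 1 = n; omega)]
          change _ = _ + (n - 1)
          omega
        · have hi' : (i : ℕ) + 1 ≠ n := by
            intro h
            apply hi
            apply Fin.ext
            change (i : ℕ) = n - 1
            omega
          rw [dn_ne _ _ hi, kp_lt i hi', kp_lt i hi']
      rw [h2]
      exact ih fun x hx => ht x (Multiset.mem_cons_of_mem hx)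
    · intro i _ hi
      have hi' : (i : ℕ) + 1 ≠ n := by
        intro h
        apply hi
        apply Fin.ext
        change (i : ℕ) = n - 1
        omega
      split_ifs with h1
      · apply FM_eq_zero_of_not_injective
        intro hinj
        rw [kp_lt i hi'] at h1
        have hi2 := i.2
        let i' : Fin n := ⟨i - r, by omega⟩
        have hne : i' ≠ i := by
          intro h
          have := congrArg Fin.val h
          change (i : ℕ) - r = i at this
          omega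
        apply hne
        apply hinj
        rw [dn_self, dn_ne _ _ hne, kp_lt i hi', kp_lt i' (by change (i : ℕ) - r + 1 ≠ n; omega)]
      · rfl
    · intro h
      exact absurd (mem_univ _) h

/-- the index of the `k`-th largest entry -/
def jx (n k : ℕ) (h : k < n) : Fin n := ⟨n - 1 - k, by omega⟩

theorem jx_val (n k : ℕ) (h : k < n) : ((jx n k h : Fin n) : ℕ) = n - 1 - k := rfl

/-- the `k`-th largest entry raised by `N` -/
def bt (n s N k : ℕ) (h : k < n) : Fin n → ℕ := up (kp n s) (jx n k h) N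

theorem bt_self (n s N k : ℕ) (h : k < n) : bt n s N k h (jx n k h) = kp n s (jx n k h) + N := up_self _ _ _

theorem bt_ne (n s N k : ℕ) (h : k < n) {i : Fin n} (hi : i ≠ jx n k h) : bt n s N k h i = kp n s i := up_ne _ _ hi

theorem sum_bt (n s N k : ℕ) (h : k < n) : ∑ i, bt n s N k h i = s + N + ∑ i : Fin n, (i : ℕ) := by
  unfold bt
  rw [sum_up, sum_kp (by omega)]
  omega

/-- **the Murnaghan-Nakayama rule**: all hooks of length `p` come off the long one -/
theorem FM_bt {n s p k : ℕ} (hs : s < p) (hk : k < p) (hpn : p ≤ n) (hsk : s + k ≠ p) (h : k < n) (m : ℕ) (t : Multiset ℕ) :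
    FM (Multiset.replicate m p + t) (bt n s (m * p) k h) = FM t (kp n s) := by
  induction m with
  | zero =>
    rw [Multiset.replicate_zero, zero_add, zero_mul]
    congr 1
    funext i
    by_cases hi : i = jx n k h
    · subst hi
      rw [bt_self, add_zero]
    · rw [bt_ne _ _ _ _ _ hi]
  | succ m ih =>
    rw [Multiset.replicate_succ, Multiset.cons_add, FM_cons, Finset.sum_eq_single (jx n k h)]
    · rw [if_pos (by rw [bt_self, add_mul]; omega), ← ih]
      congr 1
      funext i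
      by_cases hi : i = jx n k h
      · subst hi
        rw [dn_self, bt_self, bt_self, add_mul]
        omega
      · rw [dn_ne _ _ hi, bt_ne _ _ _ _ _ hi, bt_ne _ _ _ _ _ hi]
    · intro i _ hi
      split_ifs with h1
      · apply FM_eq_zero_of_not_injective
        intro hinj
        rw [bt_ne _ _ _ _ _ hi] at h1
        have hi2 := i.2
        have hj : (i : ℕ) ≠ n - 1 - k := fun h' => hi (Fin.ext h')
        obtain ⟨i', h2, h3, h4⟩ : ∃ i' : Fin n, i' ≠ i ∧ i' ≠ jx n k h ∧ kp n s i' = kp n s i - p := by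
          by_cases hl : (i : ℕ) + 1 = n
          · rw [kp_last i hl] at h1 ⊢
            refine ⟨⟨s + i - p, by omega⟩, ?_, ?_, ?_⟩
            · intro h'
              have := congrArg Fin.val h'
              change s + (i : ℕ) - p = i at this
              omega
            · intro h'
              have := congrArg Fin.val h'
              change s + (i : ℕ) - p = n - 1 - k at this
              omega
            · rw [kp_lt]
              change s + (i : ℕ) - p + 1 ≠ n
              omega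
          · rw [kp_lt i hl] at h1 ⊢
            refine ⟨⟨i - p, by omega⟩, ?_, ?_, ?_⟩
            · intro h'
              have := congrArg Fin.val h'
              change (i : ℕ) - p = i at this
              omega
            · intro h'
              have := congrArg Fin.val h'
              change (i : ℕ) - p = n - 1 - k at this
              omega
            · rw [kp_lt]
              change (i : ℕ) - p + 1 ≠ n
              omega
        apply h2
        apply hinj
        rw [dn_self, dn_ne _ _ h2, bt_ne _ _ _ _ _ h3, bt_ne _ _ _ _ _ hi, h4]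
      · rfl
    · intro h'
      exact absurd (mem_univ _) h'

theorem range_bt_ne {n s N k l : ℕ} (hN : 0 < N) (hk : k < n) (hl : l < n) (hkl : k ≠ l) :
    Set.range (bt n s N k hk) ≠ Set.range (bt n s N l hl) := by
  intro he
  have hj : jx n k hk ≠ jx n l hl := by
    intro h
    have := congrArg Fin.val h
    rw [jx_val, jx_val] at this
    omega
  have h1 : kp n s (jx n k hk) ∈ Set.range (bt n s N l hl) := ⟨jx n k hk, bt_ne _ _ _ _ _ hj⟩
  rw [← he] at h1
  obtain ⟨i, hi⟩ := h1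
  by_cases hij : i = jx n k hk
  · rw [hij, bt_self] at hi
    omega
  · rw [bt_ne _ _ _ _ _ hij] at hi
    exact hij (kp_injective _ _ hi)

/-- the long entry -/
theorem mem_range_bt {n s N k l p : ℕ} (hn : n = s + N) (hs : s < p) (hNp : 2 * p ≤ N) (hkp : k < p) (hlp : l < p)
    (hk : k < n) (hl : l < n) :
    bt n s N k hk (jx n k hk) < n + n ∧
      n + n - 1 - bt n s N k hk (jx n k hk) ∈ Set.range (bt n s N l hl) := by
  have h1 : bt n s N k hk (jx n k hk) = (if k = 0 then s else 0) + (n - 1 - k) + N := by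
    rw [bt_self]
    by_cases h0 : k = 0
    · subst h0
      rw [if_pos rfl, kp_last]
      · rfl
      · rw [jx_val]
        omega
    · rw [if_neg h0, kp_lt]
      · rw [jx_val]
        omega
      · rw [jx_val]
        omega
  obtain ⟨b, hb, hb2⟩ : ∃ b : ℕ, n + n - 1 - bt n s N k hk (jx n k hk) = b ∧ b ≤ s + k := by
    refine ⟨_, rfl, ?_⟩
    rw [h1]
    split_ifs <;> omega
  refine ⟨by rw [h1]; split_ifs <;> omega, ?_⟩
  rw [hb]
  refine ⟨⟨b, by omega⟩, ?_⟩
  rw [bt_ne]
  · rw [kp_lt]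
    change b + 1 ≠ n
    omega
  · intro h
    have := congrArg Fin.val h
    rw [jx_val] at this
    change b = _ at this
    omega

theorem range_bt_ne_refl {n s N k l p : ℕ} (hn : n = s + N) (hs : s < p) (hNp : 2 * p ≤ N) (hkp : k < p) (hlp : l < p)
    (hk : k < n) (hl : l < n) {γ γ' : Fin n → ℕ} (hγ : Set.range γ = Set.range (bt n s N l hl)) (h : IsRefl γ γ') :
    Set.range (bt n s N k hk) ≠ Set.range γ' := by
  intro he
  obtain ⟨h1, h2⟩ := mem_range_bt hn hs hNp hkp hlp hk hl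
  have h3 : bt n s N k hk (jx n k hk) ∈ Set.range γ' := he ▸ ⟨_, rfl⟩
  have h4 := h.iff (n + n - 1 - bt n s N k hk (jx n k hk)) (by omega)
  rw [hγ] at h4
  refine h4.1 h2 ?_
  have h5 : n + n - 1 - (n + n - 1 - bt n s N k hk (jx n k hk)) = bt n s N k hk (jx n k hk) := by omega
  rwa [h5]

theorem bt_injective {n s N k p : ℕ} (hn : n = s + N) (hs : s < p) (hNp : 2 * p ≤ N) (hkp : k < p)
    (hk : k < n) : Function.Injective (bt n s N k hk) := by
  have h0 : ∀ i : Fin n, i ≠ jx n k hk → kp n s i < kp n s (jx n k hk) + N := by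
    intro i hi
    have hi2 := i.2
    have hi3 : (i : ℕ) ≠ n - 1 - k := fun h => hi (Fin.ext h)
    have h1 : kp n s i ≤ s + i := by
      unfold kp
      split_ifs <;> omega
    have h2 : (jx n k hk : ℕ) ≤ kp n s (jx n k hk) := by
      unfold kp
      split_ifs <;> omega
    rw [jx_val] at h2
    omega
  intro a b hab
  by_cases ha : a = jx n k hk
  · by_cases hb : b = jx n k hk
    · rw [ha, hb]
    · rw [ha, bt_self, bt_ne _ _ _ _ _ hb] at hab
      have := h0 b hb
      omega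
  · by_cases hb : b = jx n k hk
    · rw [hb, bt_self, bt_ne _ _ _ _ _ ha] at hab
      have := h0 a ha
      omega
    · rw [bt_ne _ _ _ _ _ ha, bt_ne _ _ _ _ _ hb] at hab
      exact kp_injective _ _ hab

theorem pair_eq_zero_of_range {n : ℕ} {β γ : Fin n → ℕ} (h : Set.range β ≠ Set.range γ) : pair β γ = 0 := by
  unfold pair
  refine Finset.sum_eq_zero fun σ _ => if_neg ?_
  rintro rfl
  apply h
  rw [Set.range_comp]
  simp

end Cfsg.Agent.H963.XZ

private theorem dce_226e200a86a3 : _root_.True := by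
  try have : _root_.True := by simp only [_root_.Cfsg.Agent.H963.XZ.bt.congr_simp]
  try have : _root_.True := by simp only [_root_.Cfsg.Agent.H963.XZ.jx.congr_simp]
  exact _root_.True.intro
end

-- part: H985/XZ/LeviD
section
prune_inst 0x80000000000000000000000000000080000000000000000000020000000000000000000000000000000000000000000000000000000000000000000000000000000000000000000000
set_option linter.all false
open scoped Cfsg.Agent.FastGrp

/-!
# Levi subgroups of the models on hyperbolic Witt frames, type `D_{n+2}` (helper985, S4791 + S4927)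

The analogue of `H769.OZ.Levi` for type `D`. `M : ModelD Fr K` : a group `M.I` of isometries of the frame
`Fr : Frame H (Fin (n + 2))` and an epimorphism `M.φ : M.I →* K` with scalar kernel.

* `NodeK N k` : the set `N` of nodes belongs to the member `E Fr k true` of the flag:
  `k < n`, `N = {k}`; `k = n`, `N = {n, n + 1}`; `k = n + 1`, `N = {n + 1}`;
* `phi_mem_PJ_iff`, `phi_mem_LJ_iff` : membership in `P_{Nᶜ}`, `L_{Nᶜ}`;
* `plus` : the model `PΩ⁺`, with the data of `WittInst.rgdD_model`.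
-/

set_option autoImplicit false
set_option linter.unusedSectionVars false
set_option linter.unreachableTactic false
set_option linter.unusedTactic false

namespace Cfsg.Agent.H985.XZ

open Cfsg.Agent.ChevalleyStructure.CoxeterGeom Cfsg.Agent.Tits.Roots
open Cfsg.Agent.Nodes.TypeC (wt wt_apply ng ng_ng ng_fst ng_snd wt_ng)
open Cfsg.Agent.Nodes.TypeD
open Cfsg.Agent.Nodes Cfsg.Agent.Nodes.Comb Cfsg.Agent.Nodes.Reps Cfsg.Agent.Nodes.WittRoot Cfsg.Agent.Nodes.BNOf
open Cfsg.Agent.Nodes.RGDLib Cfsg.Agent.Nodes.WittAll Cfsg.Agent.Nodes.StabComb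
open Cfsg.Agent.Nodes.Bruhat Cfsg.Agent.Nodes.OppDec Cfsg.Agent.Nodes.LeviDec
open Cfsg.Agent.Nodes.WittRGD (Tor mem_Tor)
open Cfsg.Agent.TitsThree Cfsg.Agent.TitsThree.Siegel Cfsg.Agent.TitsThree.WittFrame
  Cfsg.Agent.TitsThree.WittWeyl Cfsg.Agent.TitsThree.FrameCN
open Cfsg.Agent.H415.SpFlag (sum_wt)
open Cfsg.Agent.H769.OZ

/-! ### The nodes -/

section nodes

variable {n : ℕ}

/-- the set `N` of nodes belongs to the flag member `k` -/
def NodeK (N : Set (Fin (n + 2))) (k : Fin (n + 2)) : Prop :=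
  ((k : ℕ) < n ∧ N = {k}) ∨ ((k : ℕ) = n ∧ N = {k, Fin.last (n + 1)}) ∨ (k = Fin.last (n + 1) ∧ N = {k})

theorem NodeK.of_lt {k : Fin (n + 2)} (h : (k : ℕ) < n) : NodeK {k} k := Or.inl ⟨h, rfl⟩

theorem NodeK.pair : NodeK ({pd n, Fin.last (n + 1)} : Set (Fin (n + 2))) (pd n) := Or.inr (Or.inl ⟨rfl, rfl⟩)

theorem NodeK.last : NodeK ({Fin.last (n + 1)} : Set (Fin (n + 2))) (Fin.last (n + 1)) := Or.inr (Or.inr ⟨rfl, rfl⟩)

/-- partial sums -/
theorem sum_ee (x : Fin (n + 2) → ℤ) (m : Fin (n + 2)) : ∑ k ∈ Finset.Iic m, ee x k =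
    if (m : ℕ) < n then x m else if (m : ℕ) = n then x m + x (Fin.last (n + 1)) else 2 * x m := by
  have h1 : ∀ k, ee x k = ∑ j, x j * bt j k := by
    intro k
    simp [ee, Finset.sum_apply]
  simp only [h1]
  rw [Finset.sum_comm]
  simp only [← Finset.mul_sum, sum_bt]
  have hm := m.2
  rw [Fin.sum_univ_castSucc]
  have h2 : ∀ i : Fin (n + 1), ((i.castSucc : Fin (n + 2)) : ℕ) + 1 < n + 2 := fun i => by
    have := i.2
    simp only [Fin.val_castSucc]
    omega
  have h3 : ¬ ((Fin.last (n + 1) : Fin (n + 2)) : ℕ) + 1 < n + 2 := by simp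
  simp only [h2, h3, if_true, if_false]
  by_cases h4 : (m : ℕ) < n + 1
  · have h5 : m = (⟨m, h4⟩ : Fin (n + 1)).castSucc := by ext; simp
    rw [Finset.sum_eq_single (⟨m, h4⟩ : Fin (n + 1))]
    · rw [← h5, if_pos rfl]
      split_ifs <;> first | omega | ring
    · intro j _ hj
      rw [if_neg, mul_zero]
      intro h'
      apply hj
      ext
      have := congrArg Fin.val h'
      simpa using this.symm
    · simp
  · have h5 : m = Fin.last (n + 1) := by ext; simp; omega
    rw [Finset.sum_eq_zero]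
    · subst h5
      have h6 : ((Fin.last (n + 1) : Fin (n + 2)) : ℕ) = n + 1 := by simp
      rw [h6, if_neg (by omega), if_pos rfl, if_neg (by omega), if_neg (by omega)]
      ring
    · intro j _
      rw [if_neg, mul_zero]
      rintro h'
      have := congrArg Fin.val h'
      have hj := j.2
      simp at this
      omega

theorem NodeK.sum_eq_zero {N : Set (Fin (n + 2))} {k : Fin (n + 2)} (hN : NodeK N k) {x : Fin (n + 2) → ℤ}
    (hx : ∀ i ∈ N, x i = 0) : ∑ j ∈ Finset.Iic k, ee x j = 0 := by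
  rw [sum_ee]
  rcases hN with ⟨h, rfl⟩ | ⟨h, rfl⟩ | ⟨rfl, rfl⟩
  · rw [if_pos h, hx k rfl]
  · rw [if_neg (by omega), if_pos h, hx k (by simp), hx _ (by simp), add_zero]
  · have h6 : ((Fin.last (n + 1) : Fin (n + 2)) : ℕ) = n + 1 := by simp
    rw [h6, if_neg (by omega), if_neg (by omega), hx _ rfl, mul_zero]

theorem NodeK.sum_pos {N : Set (Fin (n + 2))} {k : Fin (n + 2)} (hN : NodeK N k) {x : Fin (n + 2) → ℤ}
    (h0 : 0 ≤ x) (hx : ∃ i ∈ N, 0 < x i) : 0 < ∑ j ∈ Finset.Iic k, ee x j := by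
  rw [sum_ee]
  obtain ⟨i, hi, hi0⟩ := hx
  rcases hN with ⟨h, rfl⟩ | ⟨h, rfl⟩ | ⟨rfl, rfl⟩
  · obtain rfl : i = k := hi
    rw [if_pos h]
    exact hi0
  · rw [if_neg (by omega), if_pos h]
    have h1 : (0 : ℤ) ≤ x k := h0 k
    have h2 : (0 : ℤ) ≤ x (Fin.last (n + 1)) := h0 _
    rcases hi with rfl | hi
    · exact add_pos_of_pos_of_nonneg hi0 h2
    · obtain rfl : i = Fin.last (n + 1) := hi
      exact add_pos_of_nonneg_of_pos h1 hi0
  · obtain rfl : i = Fin.last (n + 1) := hi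
    have h6 : ((Fin.last (n + 1) : Fin (n + 2)) : ℕ) = n + 1 := by simp
    rw [h6, if_neg (by omega), if_neg (by omega)]
    exact mul_pos (by norm_num) hi0

theorem sum_eq_of {k : Fin (n + 2)} {x : Fin (n + 2) → ℤ} {a b : Fin (n + 2) × Bool} (e : ee x = wt a + wt b) :
    ∑ j ∈ Finset.Iic k, ee x j = (if a.1 ≤ k then (if a.2 then (1 : ℤ) else -1) else 0) +
      (if b.1 ≤ k then (if b.2 then (1 : ℤ) else -1) else 0) := by
  rw [e]
  simp only [Pi.add_apply, Finset.sum_add_distrib, sum_wt]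

theorem levi_cases {k : Fin (n + 2)} {x : Fin (n + 2) → ℤ} {a b : Fin (n + 2) × Bool}
    (e : ee x = wt a + wt b) (hx : ∑ j ∈ Finset.Iic k, ee x j = 0) :
    (k < a.1 ∧ k < b.1) ∨ (a.1 ≤ k ∧ b.1 ≤ k ∧ a.2 ≠ b.2) := by
  rw [sum_eq_of e] at hx
  by_cases h2 : a.1 ≤ k <;> by_cases h3 : b.1 ≤ k
  · refine Or.inr ⟨h2, h3, fun h4 => ?_⟩
    rw [if_pos h2, if_pos h3, h4] at hx
    split_ifs at hx <;> norm_num at hx
  · rw [if_pos h2, if_neg h3] at hx
    split_ifs at hx <;> norm_num at hx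
  · rw [if_neg h2, if_pos h3] at hx
    split_ifs at hx <;> norm_num at hx
  · exact Or.inl ⟨not_le.1 h2, not_le.1 h3⟩

theorem pos_cases {k : Fin (n + 2)} {x : Fin (n + 2) → ℤ} {a b : Fin (n + 2) × Bool}
    (e : ee x = wt a + wt b) (hx : 0 < ∑ j ∈ Finset.Iic k, ee x j) :
    (H415.SpFlag.Good a b ∧ ((a.1 ≤ k ∧ (b.2 = true ∨ k < b.1)) ∨ (b.1 ≤ k ∧ b.2 = true))) ∨
      (H415.SpFlag.Good b a ∧ ((b.1 ≤ k ∧ (a.2 = true ∨ k < a.1)) ∨ (a.1 ≤ k ∧ a.2 = true))) := by
  rw [sum_eq_of e] at hx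
  obtain ⟨i, s⟩ := a
  obtain ⟨j, t⟩ := b
  unfold H415.SpFlag.Good
  simp only at hx ⊢
  by_cases h2 : i ≤ k
  · rw [if_pos h2] at hx
    by_cases h3 : j ≤ k
    · rw [if_pos h3] at hx
      cases s
      · cases t
        · norm_num at hx
        · norm_num at hx
      · cases t
        · norm_num at hx
        · exact Or.inl ⟨⟨rfl, Or.inl rfl⟩, Or.inl ⟨h2, Or.inl rfl⟩⟩
    · rw [if_neg h3] at hx
      have h4 : k < j := not_le.1 h3
      cases s
      · norm_num at hx
      · cases t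
        · exact Or.inl ⟨⟨rfl, Or.inr ⟨lt_of_le_of_lt h2 h4, rfl⟩⟩, Or.inl ⟨h2, Or.inr h4⟩⟩
        · exact Or.inl ⟨⟨rfl, Or.inl rfl⟩, Or.inl ⟨h2, Or.inl rfl⟩⟩
  · rw [if_neg h2] at hx
    have h4 : k < i := not_le.1 h2
    by_cases h3 : j ≤ k
    · rw [if_pos h3] at hx
      cases t
      · norm_num at hx
      · cases s
        · exact Or.inr ⟨⟨rfl, Or.inr ⟨lt_of_le_of_lt h3 h4, rfl⟩⟩, Or.inl ⟨h3, Or.inr h4⟩⟩
        · exact Or.inl ⟨⟨rfl, Or.inl rfl⟩, Or.inr ⟨h3, rfl⟩⟩
    · rw [if_neg h3] at hx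
      norm_num at hx

end nodes

/-! ### The root groups -/

section lin

variable {F : Type*} [Field F] {V : Type*} [AddCommGroup V] [Module F V] {H : HForm F V} {n : ℕ}
  {Fr : Frame H (Fin (n + 2))} {k : Fin (n + 2)} {N : Set (Fin (n + 2))} {W : Type*} [Group W]
  {cs : CoxeterSystem (TypeD.M n) W}

/-- the root groups of the positive roots outside `Nᶜ` -/
theorem rg_le_UR (hN : NodeK N k) {x : Fin (n + 2) → ℤ} (hx : IsRoot cs (isCartan n) x) (h0 : 0 ≤ x)
    (hk : ∃ i ∈ N, 0 < x i) : WittRGDD.rg Fr x ≤ UR Fr k := by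
  obtain ⟨a, b, hab, e⟩ := exists_of_isRoot cs hx
  rw [WittRGDD.rg_eq _ hab e]
  have hab' : a.1 ≠ b.1 := hab
  rcases pos_cases e (hN.sum_pos h0 hk) with ⟨h1, h2⟩ | ⟨h1, h2⟩
  · rw [← PG_ne Fr hab']
    exact PG_le_UR (Or.inl hab') h1 h2
  · rw [XG_swap Fr hab', ← PG_ne Fr hab'.symm]
    exact PG_le_UR (Or.inl hab'.symm) h1 h2

/-- the root groups of the roots of `Nᶜ` -/
theorem rg_le_St (hN : NodeK N k) {x : Fin (n + 2) → ℤ} (hx : IsRoot cs (isCartan n) x)
    (hk : ∀ i ∈ N, x i = 0) (s : Bool) : WittRGDD.rg Fr x ≤ StE (E Fr k s) := by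
  obtain ⟨a, b, hab, e⟩ := exists_of_isRoot cs hx
  rw [WittRGDD.rg_eq _ hab e]
  have hab' : a.1 ≠ b.1 := hab
  rw [← PG_ne Fr hab']
  exact PG_le_St (Or.inl hab') (levi_cases e (hN.sum_eq_zero hk)) s

end lin

/-! ### The Weyl elements -/

section weyl

variable {F : Type*} [Field F] {V : Type*} [AddCommGroup V] [Module F V] {H : HForm F V} {n : ℕ}
  {Fr : Frame H (Fin (n + 2))} {k : Fin (n + 2)} {N : Set (Fin (n + 2))}

theorem b_notMem_true {y : Fin (n + 2) × Bool} (h : y.2 = false ∨ k < y.1) : Fr.b y ∉ E Fr k true := by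
  intro hm
  obtain ⟨j, t⟩ := y
  have h1 := h_E_zero (Fr := Fr) (k := k) (s := true) (x := (j, !t)) (by
    rcases h with h | h
    · simp only at h
      subst h
      exact Or.inl rfl
    · exact Or.inr h) hm
  rw [Fr.hb] at h1
  cases t
  · simp only [Bool.not_false, Bool.false_eq_true, ne_eq, not_false_eq_true, and_self, if_true, if_false] at h1
    exact H.ε_ne h1
  · simp at h1

theorem sg_perm (hN : NodeK N k) {i : Fin (n + 2)} (hi : i ∉ N) {j : Fin (n + 2)} (hj : j ≤ k) :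
    ∃ j' : Fin (n + 2), j' ≤ k ∧ sg i (j, true) = (j', true) := by
  have hj' : (j : ℕ) ≤ k := hj
  have hk2 := k.2
  have hik : i ≠ k := by
    rintro rfl
    rcases hN with ⟨-, rfl⟩ | ⟨-, rfl⟩ | ⟨-, rfl⟩ <;> simp at hi
  have hik' : (i : ℕ) ≠ k := fun h => hik (Fin.ext h)
  by_cases h : (i : ℕ) + 1 < n + 2
  · by_cases h1 : j = i
    · subst h1
      refine ⟨⟨j + 1, h⟩, ?_, sg_up h _⟩
      rw [Fin.le_def]
      simp only
      omega
    · by_cases h2 : (j : ℕ) = i + 1
      · have : j = ⟨i + 1, h⟩ := Fin.ext h2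
        rw [this, sg_down h]
        refine ⟨i, ?_, rfl⟩
        rw [Fin.le_def]
        omega
      · exact ⟨j, hj, sg_of_ne h h1 h2⟩
  · have hi2 := i.2
    have hin : (i : ℕ) = n + 1 := by omega
    have hil : i = Fin.last (n + 1) := Fin.ext (by rw [hin]; simp)
    have hkn : (k : ℕ) < n := by
      rcases hN with ⟨h3, -⟩ | ⟨-, rfl⟩ | ⟨h3, -⟩
      · exact h3
      · exact absurd (by rw [hil]; simp) hi
      · exact absurd (by rw [hil, h3]) hik
    exact ⟨j, hj, sg_last_of_ne h (by simp only; omega)⟩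

theorem nn_StE_iff (hN : NodeK N k) (i : Fin (n + 2)) : WittRGDD.nn Fr i ∈ StE (E Fr k true) ↔ i ∉ N := by
  have hm := WittRGDD.mono_nn (Fr := Fr) i
  have hk2 := k.2
  constructor
  · intro h hiN
    -- an index which leaves
    obtain ⟨j, hj, hy⟩ : ∃ j : Fin (n + 2), j ≤ k ∧ ((sg i (j, true)).2 = false ∨ k < (sg i (j, true)).1) := by
      rcases hN with ⟨h1, rfl⟩ | ⟨h1, rfl⟩ | ⟨h1, rfl⟩
      · obtain rfl : i = k := hiN
        refine ⟨i, le_rfl, Or.inr ?_⟩
        rw [sg_up (by omega)]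
        exact Fin.lt_def.2 (Nat.lt_succ_self _)
      · rcases hiN with rfl | hiN
        · refine ⟨i, le_rfl, Or.inr ?_⟩
          rw [sg_up (by omega)]
          exact Fin.lt_def.2 (Nat.lt_succ_self _)
        · obtain rfl : i = Fin.last (n + 1) := hiN
          refine ⟨k, le_rfl, Or.inl ?_⟩
          have e : k = pd n := Fin.ext h1
          have h3 : ¬ ((Fin.last (n + 1) : Fin (n + 2)) : ℕ) + 1 < n + 2 := by simp
          have h4 : pd n ≠ Fin.last (n + 1) := by simp [pd, Fin.ext_iff]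
          unfold sg
          rw [dif_neg h3, e, if_neg h4, if_pos rfl]
          rfl
      · obtain rfl : i = k := hiN
        refine ⟨i, le_rfl, Or.inl ?_⟩
        have h3 : ¬ (i : ℕ) + 1 < n + 2 := by rw [h1]; simp
        rw [sg_last h3]
        rfl
    obtain ⟨l, hl, e⟩ := hm (j, true)
    have h1 : WittRGDD.nn Fr i (Fr.b (j, true)) ∈ E Fr k true := (h _).2 (b_mem_E hj _)
    rw [e] at h1
    have h2 := Submodule.smul_mem _ l⁻¹ h1
    rw [smul_smul, inv_mul_cancel₀ hl, one_smul] at h2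
    exact b_notMem_true hy h2
  · intro hiN
    have hle : ∀ g : V ≃ₗ[F] V, Mono Fr g (sg i) → ∀ v ∈ E Fr k true, g v ∈ E Fr k true := by
      intro g hg v hv
      refine Submodule.span_induction (p := fun v _ => g v ∈ E Fr k true) ?_ ?_ ?_ ?_ hv
      · rintro _ ⟨j, hj, rfl⟩
        obtain ⟨c, -, hc⟩ := hg (j, true)
        obtain ⟨j', hj', e⟩ := sg_perm hN hiN hj
        rw [hc, e]
        exact Submodule.smul_mem _ _ (b_mem_E hj' _)
      · rw [map_zero]
        exact zero_mem _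
      · intro x y _ _ hx hy
        rw [map_add]
        exact add_mem hx hy
      · intro c x _ hx
        rw [map_smul]
        exact Submodule.smul_mem _ _ hx
    intro v
    refine ⟨fun h => ?_, hle _ hm v⟩
    have := hle _ (hm.inv (sg_sg i)) _ h
    rwa [inv_apply_self] at this

end weyl

/-! ### The group -/

section group

variable {F : Type*} [Field F] {V : Type*} [AddCommGroup V] [Module F V] {H : HForm F V} {n : ℕ}

/-- a group of isometries of a hyperbolic frame and a quotient modulo scalars -/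
structure ModelD (Fr : Frame H (Fin (n + 2))) (K : Type*) [Group K] where
  /-- the group of isometries -/
  I : Subgroup (V ≃ₗ[F] V)
  /-- the projection -/
  φ : I →* K
  ker : ∀ (v : V) (g : I), φ g = 1 → ∃ a : F, g.1 v = a • v
  surj : Function.Surjective φ

namespace ModelD

variable {Fr : Frame H (Fin (n + 2))} {K : Type*} [Group K] (M : ModelD Fr K)

/-- the torus -/
def T : Subgroup K := ((Tor Fr M.I).subgroupOf M.I).map M.φ

/-- the root groups -/
def X (x : Fin (n + 2) → ℤ) : Subgroup K := ((WittRGDD.rg Fr x).subgroupOf M.I).map M.φ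

theorem mem_X {x : Fin (n + 2) → ℤ} {y : K} : y ∈ M.X x ↔ ∃ (g : V ≃ₗ[F] V) (hg : g ∈ M.I), g ∈ WittRGDD.rg Fr x ∧
    M.φ ⟨g, hg⟩ = y := by
  constructor
  · rintro ⟨g, hg, rfl⟩
    exact ⟨g.1, g.2, hg, rfl⟩
  · rintro ⟨g, hg, h, rfl⟩
    exact ⟨⟨g, hg⟩, h, rfl⟩

theorem ker_StE {g : M.I} (hg : M.φ g = 1) (D : Submodule F V) : g.1 ∈ StE D := by
  have key : ∀ g : M.I, M.φ g = 1 → ∀ v ∈ D, g.1 v ∈ D := by
    intro g hg v hv
    obtain ⟨a, ha⟩ := M.ker v g hg
    rw [ha]
    exact Submodule.smul_mem _ _ hv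
  intro v
  refine ⟨fun h => ?_, key g hg v⟩
  have := key g⁻¹ (by rw [map_inv, hg, inv_one]) _ h
  have e : (g⁻¹ : M.I).1 (g.1 v) = v := inv_apply_self g.1 v
  rwa [e] at this

/-- the image of the stabiliser of `D` -/
def StK (D : Submodule F V) : Subgroup K := ((StE D).subgroupOf M.I).map M.φ

theorem phi_mem_StK {D : Submodule F V} {g : M.I} : M.φ g ∈ M.StK D ↔ g.1 ∈ StE D := by
  constructor
  · rintro ⟨g', hg', e⟩
    have h1 : M.φ (g * g'⁻¹) = 1 := by rw [map_mul, map_inv, e, mul_inv_cancel]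
    have h2 := mul_mem (M.ker_StE h1 D) (Subgroup.mem_subgroupOf.1 hg')
    have e2 : (g * g'⁻¹ : M.I).1 * g'.1 = g.1 := by
      change g.1 * g'.1⁻¹ * g'.1 = g.1
      group
    rwa [e2] at h2
  · intro h
    exact Subgroup.mem_map_of_mem _ (Subgroup.mem_subgroupOf.2 h)

theorem mem_StK {D : Submodule F V} {x : K} : x ∈ M.StK D ↔ ∃ g : M.I, g.1 ∈ StE D ∧ M.φ g = x := by
  constructor
  · rintro ⟨g, hg, e⟩
    exact ⟨g, Subgroup.mem_subgroupOf.1 hg, e⟩
  · rintro ⟨g, hg, rfl⟩
    exact M.phi_mem_StK.2 hg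

variable {W : Type*} [Group W] (cs : CoxeterSystem (TypeD.M n) W) {k : Fin (n + 2)} {N : Set (Fin (n + 2))}

theorem T_le_StK (s : Bool) : M.T ≤ M.StK (E Fr k s) := by
  rintro _ ⟨g, hg, rfl⟩
  exact M.phi_mem_StK.2 (mono_StE (Subgroup.mem_subgroupOf.1 hg).2 s)

theorem B_le_StK (hN : NodeK N k) : RGD.B cs (isCartan n) M.T M.X ≤ M.StK (E Fr k true) := by
  refine sup_le (M.T_le_StK true) (RGD.Sup_le fun x hx => ?_)
  intro y hy
  rw [mem_X] at hy
  obtain ⟨g, hg, hgx, rfl⟩ := hy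
  refine (M.phi_mem_StK (g := ⟨g, hg⟩)).2 ?_
  by_cases h : ∃ i ∈ N, 0 < x i
  · exact UR_le_St (rg_le_UR hN hx.1 hx.2 h hgx)
  · refine rg_le_St hN hx.1 (fun i hi => ?_) true hgx
    have h1 : (0 : ℤ) ≤ x i := hx.2 i
    by_contra h2
    exact h ⟨i, hi, lt_of_le_of_ne h1 (Ne.symm h2)⟩

theorem LJ_le_StK (hN : NodeK N k) (s : Bool) : LJ cs (isCartan n) M.T M.X Nᶜ ≤ M.StK (E Fr k s) := by
  refine sup_le (M.T_le_StK s) (RGD.Sup_le fun x hx => ?_)
  intro y hy
  rw [mem_X] at hy
  obtain ⟨g, hg, hgx, rfl⟩ := hy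
  exact (M.phi_mem_StK (g := ⟨g, hg⟩)).2
    (rg_le_St hN hx.1 (fun i hi => hx.2 i (fun h => h hi)) s hgx)

theorem VJ_le (hN : NodeK N k) {x : K} (hx : x ∈ VJ cs (isCartan n) M.X Nᶜ) :
    ∃ g : M.I, g.1 ∈ UR Fr k ∧ M.φ g = x := by
  have h1 : VJ cs (isCartan n) M.X Nᶜ ≤ ((UR Fr k).subgroupOf M.I).map M.φ := by
    refine RGD.Sup_le fun x hx => ?_
    obtain ⟨h1, h2, j, hj, h3⟩ := hx
    have hjN : j ∈ N := by
      by_contra h
      exact hj h
    intro y hy
    rw [mem_X] at hy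
    obtain ⟨g, hg, hgx, rfl⟩ := hy
    exact Subgroup.mem_map_of_mem _ (Subgroup.mem_subgroupOf.2 (rg_le_UR hN h1 h2 ⟨j, hjN, h3⟩ hgx))
  obtain ⟨g, hg, e⟩ := h1 hx
  exact ⟨g, Subgroup.mem_subgroupOf.1 hg, e⟩

/-- the Weyl elements -/
noncomputable def nw (hA : Amb Fr M.I) (i : Fin (n + 2)) : K := M.φ ⟨WittRGDD.nn Fr i, WittRGDD.nn_mem hA i⟩

theorem ker_le_center : M.φ.ker ≤ Subgroup.center ↥M.I := by
  intro g hg
  rw [Subgroup.mem_center_iff]
  intro k
  obtain ⟨a, ha⟩ := LinearMap.exists_eq_smul_id_of_forall_notLinearIndependent (f := (g.1 : V →ₗ[F] V)) (fun v => by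
    intro hli
    obtain ⟨k, hk⟩ := M.ker v g hg
    have h1 := LinearIndependent.pair_iff.1 hli k (-1) (by
      change k • v + (-1 : F) • g.1 v = 0
      rw [hk, neg_smul, one_smul, add_neg_cancel])
    exact one_ne_zero (neg_eq_zero.1 h1.2))
  have ha' : ∀ v, g.1 v = a • v := fun v => LinearMap.congr_fun ha v
  apply Subtype.ext
  ext v
  change k.1 (g.1 v) = g.1 (k.1 v)
  rw [ha', ha', map_smul]

variable (p : ℕ) [Fact p.Prime] [CharP F p] [Finite V] (hA : Amb Fr M.I) (h0 : ∀ q : Fr.Adm, q = 1)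

include h0 in
/-- **the root group datum of a model** -/
theorem rgd : RGD cs (isCartan n) p M.T (M.nw hA) M.X := by
  have : Finite (V ≃ₗ[F] V) := Finite.of_injective (fun g : V ≃ₗ[F] V => (g : V → V)) DFunLike.coe_injective
  have : Finite W := finite_W cs
  exact rgd_map_of_ker_le_center (rgd_restrict (rgdD hA h0 cs) M.I (fun x _ => by
    refine iSup_le fun q => ?_
    rintro _ ⟨t, rfl⟩
    exact hA.X_mem _ _ _) (fun i => WittRGDD.nn_mem hA i)) M.φ M.ker_le_center

include p hA h0 in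
/-- `P_J` is the image of the stabiliser of `E k true` -/
theorem StK_eq_PJ (hN : NodeK N k) (hG : GG cs (isCartan n) M.T M.X = ⊤) :
    M.StK (E Fr k true) = PJ cs (isCartan n) M.T M.X Nᶜ := by
  have : Finite W := finite_W cs
  have R := M.rgd cs p hA h0
  have h1 := inf_eq_PJ R (M.B_le_StK cs hN)
  rw [hG, inf_top_eq] at h1
  rw [h1]
  congr 1
  ext i
  rw [Set.mem_ofPred_eq]
  unfold nw
  rw [phi_mem_StK, nn_StE_iff hN]
  rfl

include p hA h0 in
theorem phi_mem_PJ_iff (hN : NodeK N k) (hG : GG cs (isCartan n) M.T M.X = ⊤) {g : M.I} :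
    M.φ g ∈ PJ cs (isCartan n) M.T M.X Nᶜ ↔ g.1 ∈ StE (E Fr k true) := by
  rw [← StK_eq_PJ M cs p hA h0 hN hG, phi_mem_StK]

include p hA h0 in
/-- **the Levi subgroup** -/
theorem phi_mem_LJ_iff (hN : NodeK N k) (hG : GG cs (isCartan n) M.T M.X = ⊤) {g : M.I} :
    M.φ g ∈ LJ cs (isCartan n) M.T M.X Nᶜ ↔ g.1 ∈ StE (E Fr k true) ∧ g.1 ∈ StE (E Fr k false) := by
  have R := M.rgd cs p hA h0
  refine ⟨fun h => ⟨M.phi_mem_StK.1 (M.LJ_le_StK cs hN true h), M.phi_mem_StK.1 (M.LJ_le_StK cs hN false h)⟩, ?_⟩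
  rintro ⟨h1, h2⟩
  have h3 := (phi_mem_PJ_iff M cs p hA h0 hN hG).2 h1
  obtain ⟨l, hl, v, hv, e⟩ := (mem_PJ R).1 h3
  obtain ⟨l', hl', rfl⟩ := M.mem_StK.1 (M.LJ_le_StK cs hN false hl)
  obtain ⟨v', hv', rfl⟩ := M.VJ_le cs hN hv
  have h4 : M.φ (g⁻¹ * (l' * v')) = 1 := by rw [map_mul, map_inv, map_mul, ← e, inv_mul_cancel]
  have h5 := M.ker_StE h4 (E Fr k false)
  have h6 : v'.1 ∈ StE (E Fr k false) := by
    have := mul_mem (inv_mem hl') (mul_mem h2 h5)
    have e2 : l'.1⁻¹ * (g.1 * (g⁻¹ * (l' * v') : M.I).1) = v'.1 := by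
      change l'.1⁻¹ * (g.1 * (g.1⁻¹ * (l'.1 * v'.1))) = v'.1
      group
    rwa [e2] at this
  have h7 : v' = 1 := Subtype.ext (UR_inf (hA.iso _ v'.2) hv' h6)
  rw [e, h7, map_one, mul_one]
  exact hl

end ModelD

end group

/-! ### `PΩ⁺` -/

section Plus

open QuadraticMap
open Cfsg.Agent.LieClassical Cfsg.Agent.LieClassical.OrthCore Cfsg.Agent.LieClassical.OrthTrans
  Cfsg.Agent.LieClassical.OrthSimple Cfsg.Agent.LieClassical.OrthForms
open Cfsg.Agent.TitsThree.WBridge Cfsg.Agent.TitsThree.KSideO Cfsg.Agent.Nodes.WittInst Cfsg.Agent.TitsThree.SiegelGen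

variable {ι : Type} [Fintype ι] [DecidableEq ι] {F : Type*} [Field F] {Q : QuadraticForm F (ι → F)} {n : ℕ}

/-- the model `PΩ(Q)` for a frame of index `n + 2` -/
noncomputable def modelPO (W : WFrame (PO Q) (n + 2)) (hG : _root_.Cfsg.Agent.LieClassical.OrthTrans.Good Q) : ModelD (toFrame W) (Cfsg.POmega F ⇑Q) where
  I := _root_.Cfsg.Agent.LieClassical.OrthCore.E Q
  φ := toPOmega hG
  ker v _ hg := scalar_of_center hG (center_of_toPOmega hG hg) |>.imp fun _ h => h v
  surj := toPOmega_surjective hG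

variable (W : WFrame (PO Q) (n + 2)) (hG : _root_.Cfsg.Agent.LieClassical.OrthTrans.Good Q)

theorem modelPO_GG (h0 : ∀ q : (toFrame W).Adm, q = 1) {G : Type*} [Group G] (cs : CoxeterSystem (TypeD.M n) G) :
    GG cs (isCartan n) (modelPO W hG).T (modelPO W hG).X = ⊤ := by
  have h := G1D_eq_top W (toPOmega hG) (toPOmega_surjective hG) h0 cs
  rw [eq_top_iff, ← h]
  exact le_sup_right

end Plus

end Cfsg.Agent.H985.XZ
end
end
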